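import Cfsg.Agent.DCoset.J4W.CoverDefs

/-! Generated by tools/dcoset/emit.py: forests. -/

set_option Elab.async false
set_option maxRecDepth 100000

namespace Cfsg.Agent.DCoset.J4W

open Cfsg.Agent.DCoset Cfsg.Agent.CosetCert

theorem point_0_24 : allFrom (WalkCover.checkPoint cover steps rules tab 0) 14400 600 = true := by
  decide +kernel

theorem point_0_25 : allFrom (WalkCover.checkPoint cover steps rules tab 0) 15000 180 = true := by
  decide +kernel


end Cfsg.Agent.DCoset.J4W
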