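import Cfsg.Agent.DCoset.J4W.CoverDefs

/-! Generated by tools/dcoset/emit.py: forests. -/

set_option Elab.async false
set_option maxRecDepth 100000

namespace Cfsg.Agent.DCoset.J4W

open Cfsg.Agent.DCoset Cfsg.Agent.CosetCert

theorem point_3_16 : allFrom (WalkCover.checkPoint cover steps rules tab 3) 9600 600 = true := by
  decide +kernel

theorem point_3_17 : allFrom (WalkCover.checkPoint cover steps rules tab 3) 10200 600 = true := by
  decide +kernel

theorem point_3_18 : allFrom (WalkCover.checkPoint cover steps rules tab 3) 10800 600 = true := by
  decide +kernel

theorem point_3_19 : allFrom (WalkCover.checkPoint cover steps rules tab 3) 11400 600 = true := by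
  decide +kernel

theorem point_3_20 : allFrom (WalkCover.checkPoint cover steps rules tab 3) 12000 600 = true := by
  decide +kernel

theorem point_3_21 : allFrom (WalkCover.checkPoint cover steps rules tab 3) 12600 600 = true := by
  decide +kernel

theorem point_3_22 : allFrom (WalkCover.checkPoint cover steps rules tab 3) 13200 600 = true := by
  decide +kernel

theorem point_3_23 : allFrom (WalkCover.checkPoint cover steps rules tab 3) 13800 600 = true := by
  decide +kernel


end Cfsg.Agent.DCoset.J4W
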