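import Cfsg.Agent.DCoset.J4W.CoverDefs

/-! Generated by tools/dcoset/emit.py: forests. -/

set_option Elab.async false
set_option maxRecDepth 100000

namespace Cfsg.Agent.DCoset.J4W

open Cfsg.Agent.DCoset Cfsg.Agent.CosetCert

theorem point_6_8 : allFrom (WalkCover.checkPoint cover steps rules tab 6) 4800 600 = true := by
  decide +kernel

theorem point_6_9 : allFrom (WalkCover.checkPoint cover steps rules tab 6) 5400 600 = true := by
  decide +kernel

theorem point_6_10 : allFrom (WalkCover.checkPoint cover steps rules tab 6) 6000 600 = true := by
  decide +kernel

theorem point_6_11 : allFrom (WalkCover.checkPoint cover steps rules tab 6) 6600 600 = true := by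
  decide +kernel

theorem point_6_12 : allFrom (WalkCover.checkPoint cover steps rules tab 6) 7200 600 = true := by
  decide +kernel

theorem point_6_13 : allFrom (WalkCover.checkPoint cover steps rules tab 6) 7800 600 = true := by
  decide +kernel

theorem point_6_14 : allFrom (WalkCover.checkPoint cover steps rules tab 6) 8400 600 = true := by
  decide +kernel

theorem point_6_15 : allFrom (WalkCover.checkPoint cover steps rules tab 6) 9000 600 = true := by
  decide +kernel


end Cfsg.Agent.DCoset.J4W
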