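import Cfsg.Agent.DCoset.J4W.StepDefs

/-! Generated by tools/dcoset/emit.py: steps are justified. -/

set_option Elab.async false
set_option maxRecDepth 100000

namespace Cfsg.Agent.DCoset.J4W

open Cfsg.Agent.DCoset Cfsg.Agent.CosetCert

theorem steps_30 : allFrom (Steps.check steps rules tab) 4500 150 = true := by
  decide +kernel

theorem steps_31 : allFrom (Steps.check steps rules tab) 4650 150 = true := by
  decide +kernel

theorem steps_32 : allFrom (Steps.check steps rules tab) 4800 32 = true := by
  decide +kernel


end Cfsg.Agent.DCoset.J4W
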