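import Cfsg.Agent.DCoset.J4W.CoverDefs

/-! Generated by tools/dcoset/emit.py: Schreier checks. -/

set_option Elab.async false
set_option maxRecDepth 100000

namespace Cfsg.Agent.DCoset.J4W

open Cfsg.Agent.DCoset Cfsg.Agent.CosetCert

theorem tr_6 : allFrom (WalkCover.checkTr cover tab) 1500 250 = true := by
  decide +kernel

theorem tr_7 : allFrom (WalkCover.checkTr cover tab) 1750 250 = true := by
  decide +kernel

theorem tr_8 : allFrom (WalkCover.checkTr cover tab) 2000 250 = true := by
  decide +kernel

theorem tr_9 : allFrom (WalkCover.checkTr cover tab) 2250 250 = true := by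
  decide +kernel

theorem tr_10 : allFrom (WalkCover.checkTr cover tab) 2500 250 = true := by
  decide +kernel

theorem tr_11 : allFrom (WalkCover.checkTr cover tab) 2750 250 = true := by
  decide +kernel


end Cfsg.Agent.DCoset.J4W
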