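import Cfsg.Agent.DCoset.J4W.CheckSteps0
import Cfsg.Agent.DCoset.J4W.CheckSteps1
import Cfsg.Agent.DCoset.J4W.CheckSteps2
import Cfsg.Agent.DCoset.J4W.CheckSteps3
import Cfsg.Agent.DCoset.J4W.CheckSteps4
import Cfsg.Agent.DCoset.J4W.CheckSteps5
import Cfsg.Agent.DCoset.J4W.CheckTr0
import Cfsg.Agent.DCoset.J4W.CheckTr1
import Cfsg.Agent.DCoset.J4W.CheckTr2
import Cfsg.Agent.DCoset.J4W.CheckTr3
import Cfsg.Agent.DCoset.J4W.CheckTr4
import Cfsg.Agent.DCoset.J4W.CheckTr5
import Cfsg.Agent.DCoset.J4W.CheckTr6
import Cfsg.Agent.DCoset.J4W.CheckTr7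
import Cfsg.Agent.DCoset.J4W.CheckTr8
import Cfsg.Agent.DCoset.J4W.CheckTr9
import Cfsg.Agent.DCoset.J4W.CheckTr10
import Cfsg.Agent.DCoset.J4W.CheckNode0_0
import Cfsg.Agent.DCoset.J4W.CheckNode0_1
import Cfsg.Agent.DCoset.J4W.CheckNode0_2
import Cfsg.Agent.DCoset.J4W.CheckNode0_3
import Cfsg.Agent.DCoset.J4W.CheckChain0
import Cfsg.Agent.DCoset.J4W.CheckNode1_0
import Cfsg.Agent.DCoset.J4W.CheckNode1_1
import Cfsg.Agent.DCoset.J4W.CheckNode1_2
import Cfsg.Agent.DCoset.J4W.CheckNode1_3
import Cfsg.Agent.DCoset.J4W.CheckChain1
import Cfsg.Agent.DCoset.J4W.CheckNode2_0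
import Cfsg.Agent.DCoset.J4W.CheckNode2_1
import Cfsg.Agent.DCoset.J4W.CheckNode2_2
import Cfsg.Agent.DCoset.J4W.CheckNode2_3
import Cfsg.Agent.DCoset.J4W.CheckChain2
import Cfsg.Agent.DCoset.J4W.CheckNode3_0
import Cfsg.Agent.DCoset.J4W.CheckNode3_1
import Cfsg.Agent.DCoset.J4W.CheckNode3_2
import Cfsg.Agent.DCoset.J4W.CheckNode3_3
import Cfsg.Agent.DCoset.J4W.CheckChain3
import Cfsg.Agent.DCoset.J4W.CheckNode4_0
import Cfsg.Agent.DCoset.J4W.CheckNode4_1
import Cfsg.Agent.DCoset.J4W.CheckNode4_2
import Cfsg.Agent.DCoset.J4W.CheckNode4_3
import Cfsg.Agent.DCoset.J4W.CheckChain4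
import Cfsg.Agent.DCoset.J4W.CheckNode5_0
import Cfsg.Agent.DCoset.J4W.CheckNode5_1
import Cfsg.Agent.DCoset.J4W.CheckNode5_2
import Cfsg.Agent.DCoset.J4W.CheckNode5_3
import Cfsg.Agent.DCoset.J4W.CheckChain5
import Cfsg.Agent.DCoset.J4W.CheckNode6_0
import Cfsg.Agent.DCoset.J4W.CheckNode6_1
import Cfsg.Agent.DCoset.J4W.CheckNode6_2
import Cfsg.Agent.DCoset.J4W.CheckNode6_3
import Cfsg.Agent.DCoset.J4W.CheckChain6
import Cfsg.Agent.DCoset.J4W.CheckCover

/-! Generated by tools/dcoset/emit.py: assembled certificate. -/

set_option Elab.async false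
set_option maxRecDepth 100000

namespace Cfsg.Agent.DCoset.J4W

open Cfsg.Agent.DCoset Cfsg.Agent.CosetCert

theorem steps_ok : ∀ s, s < steps.len → Steps.check steps rules tab s = true := by
  intro s hs
  have h : allFrom (Steps.check steps rules tab) 0 4832 = true :=
    (allFrom_append (n := 32) 4800 (allFrom_append (n := 150) 4650 (allFrom_append (n := 150) 4500 (allFrom_append (n := 150) 4350 (allFrom_append (n := 150) 4200 (allFrom_append (n := 150) 4050 (allFrom_append (n := 150) 3900 (allFrom_append (n := 150) 3750 (allFrom_append (n := 150) 3600 (allFrom_append (n := 150) 3450 (allFrom_append (n := 150) 3300 (allFrom_append (n := 150) 3150 (allFrom_append (n := 150) 3000 (allFrom_append (n := 150) 2850 (allFrom_append (n := 150) 2700 (allFrom_append (n := 150) 2550 (allFrom_append (n := 150) 2400 (allFrom_append (n := 150) 2250 (allFrom_append (n := 150) 2100 (allFrom_append (n := 150) 1950 (allFrom_append (n := 150) 1800 (allFrom_append (n := 150) 1650 (allFrom_append (n := 150) 1500 (allFrom_append (n := 150) 1350 (allFrom_append (n := 150) 1200 (allFrom_append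 (n := 150) 1050 (allFrom_append (n := 150) 900 (allFrom_append (n := 150) 750 (allFrom_append (n := 150) 600 (allFrom_append (n := 150) 450 (allFrom_append (n := 150) 300 (allFrom_append (n := 150) 150 steps_0 steps_1) steps_2) steps_3) steps_4) steps_5) steps_6) steps_7) steps_8) steps_9) steps_10) steps_11) steps_12) steps_13) steps_14) steps_15) steps_16) steps_17) steps_18) steps_19) steps_20) steps_21) steps_22) steps_23) steps_24) steps_25) steps_26) steps_27) steps_28) steps_29) steps_30) steps_31) steps_32)
  exact allFrom_all h hs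

theorem node_src : ∀ j, 1 ≤ j → j < steps.nNode → steps.nodeSrc j < j := fun j h1 h2 =>
  Nat.ble_eq.mp ((allFrom_iff _ _ _).1 src_all j h1 (by change j < 7 at h2; omega))

/-- The sum of the suborbit lengths. -/
theorem idx_sum : ((List.range cover.nLive).map cover.idx).sum = 173067389 := by
  decide +kernel

theorem valid : cover.Valid steps rules tab 501397585920 where
  nP_pos := by decide
  nG_le := by decide
  live_zero := ⟨by decide, by decide +kernel⟩
  u_ok l hl := allFrom_all u_all hl
  tr_ok c hc := allFrom_all ((allFrom_append (n := 180) 15000 (allFrom_append (n := 250) 14750 (allFrom_append (n := 250) 14500 (allFrom_append (n := 250) 14250 (allFrom_append (n := 250) 14000 (allFrom_append (n := 250) 13750 (allFrom_append (n := 250) 13500 (allFrom_append (n := 250) 13250 (allFrom_append (n := 250) 13000 (allFrom_append (n := 250) 12750 (allFrom_append (n := 250) 12500 (allFrom_append (n := 250) 12250 (allFrom_append (n := 250) 12000 (allFrom_append (n := 250) 11750 (allFrom_append (n := 250) 11500 (allFrom_append (n := 250) 11250 (allFrom_append (n := 250) 11000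 (allFrom_append (n := 250) 10750 (allFrom_append (n := 250) 10500 (allFrom_append (n := 250) 10250 (allFrom_append (n := 250) 10000 (allFrom_append (n := 250) 9750 (allFrom_append (n := 250) 9500 (allFrom_append (n := 250) 9250 (allFrom_append (n := 250) 9000 (allFrom_append (n := 250) 8750 (allFrom_append (n := 250) 8500 (allFrom_append (n := 250) 8250 (allFrom_append (n := 250) 8000 (allFrom_append (n := 250) 7750 (allFrom_append (n := 250) 7500 (allFrom_append (n := 250) 7250 (allFrom_append (n := 250) 7000 (allFrom_append (n := 250) 6750 (allFrom_append (n := 250) 6500 (allFrom_append (n := 250) 6250 (allFrom_append (n := 250) 6000 (allFrom_append (n := 250) 5750 (allFrom_append (n := 250) 5500 (allFrom_append (n := 250) 5250 (allFrom_append (n := 250) 5000 (allFrom_append (n := 250) 4750 (allFrom_append (n := 250) 4500 (allFrom_append (n := 250) 4250 (allFrom_append (n := 250) 4000 (allFrom_append (n := 250) 3750 (allFrom_append (n := 250) 3500 (allFrom_append (n := 250) 3250 (allFrom_append (n := 250) 3000 (allFrom_append (n := 250) 2750 (allFrom_append (n := 250) 2500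 (allFrom_append (n := 250) 2250 (allFrom_append (n := 250) 2000 (allFrom_append (n := 250) 1750 (allFrom_append (n := 250) 1500 (allFrom_append (n := 250) 1250 (allFrom_append (n := 250) 1000 (allFrom_append (n := 250) 750 (allFrom_append (n := 250) 500 (allFrom_append (n := 250) 250 tr_0 tr_1) tr_2) tr_3) tr_4) tr_5) tr_6) tr_7) tr_8) tr_9) tr_10) tr_11) tr_12) tr_13) tr_14) tr_15) tr_16) tr_17) tr_18) tr_19) tr_20) tr_21) tr_22) tr_23) tr_24) tr_25) tr_26) tr_27) tr_28) tr_29) tr_30) tr_31) tr_32) tr_33) tr_34) tr_35) tr_36) tr_37) tr_38) tr_39) tr_40) tr_41) tr_42) tr_43) tr_44) tr_45) tr_46) tr_47) tr_48) tr_49) tr_50) tr_51) tr_52) tr_53) tr_54) tr_55) tr_56) tr_57) tr_58) tr_59) tr_60) : allFrom (WalkCover.checkTr cover tab) 0 15180 = true) hc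
  stab_ok m a hm ha := allFrom_all (allFrom_all stab_all hm : allFrom _ 0 (nStab m) = true) ha
  point_ok m c hm hc := by
    change m < 7 at hm
    interval_cases m
    · exact allFrom_all ((allFrom_append (n := 180) 15000 (allFrom_append (n := 600) 14400 (allFrom_append (n := 600) 13800 (allFrom_append (n := 600) 13200 (allFrom_append (n := 600) 12600 (allFrom_append (n := 600) 12000 (allFrom_append (n := 600) 11400 (allFrom_append (n := 600) 10800 (allFrom_append (n := 600) 10200 (allFrom_append (n := 600) 9600 (allFrom_append (n := 600) 9000 (allFrom_append (n := 600) 8400 (allFrom_append (n := 600) 7800 (allFrom_append (n := 600) 7200 (allFrom_append (n := 600) 6600 (allFrom_append (n := 600) 6000 (allFrom_append (n := 600) 5400 (allFrom_append (n := 600) 4800 (allFrom_append (n := 600) 4200 (allFrom_append (n := 600) 3600 (allFrom_append (n := 600) 3000 (allFrom_append (n := 600) 2400 (allFrom_append (n := 600) 1800 (allFrom_append (n := 600) 1200 (allFrom_append (n := 600) 600 point_0_0 point_0_1) point_0_2) point_0_3) point_0_4) point_0_5) point_0_6) point_0_7) point_0_8)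 point_0_9) point_0_10) point_0_11) point_0_12) point_0_13) point_0_14) point_0_15) point_0_16) point_0_17) point_0_18) point_0_19) point_0_20) point_0_21) point_0_22) point_0_23) point_0_24) point_0_25) : allFrom (WalkCover.checkPoint cover steps rules tab 0) 0 15180 = true) hc
    · exact allFrom_all ((allFrom_append (n := 180) 15000 (allFrom_append (n := 600) 14400 (allFrom_append (n := 600) 13800 (allFrom_append (n := 600) 13200 (allFrom_append (n := 600) 12600 (allFrom_append (n := 600) 12000 (allFrom_append (n := 600) 11400 (allFrom_append (n := 600) 10800 (allFrom_append (n := 600) 10200 (allFrom_append (n := 600) 9600 (allFrom_append (n := 600) 9000 (allFrom_append (n := 600) 8400 (allFrom_append (n := 600) 7800 (allFrom_append (n := 600) 7200 (allFrom_append (n := 600) 6600 (allFrom_append (n := 600) 6000 (allFrom_append (n := 600) 5400 (allFrom_append (n := 600) 4800 (allFrom_append (n := 600) 4200 (allFrom_append (n := 600) 3600 (allFrom_append (n := 600) 3000 (allFrom_append (n := 600) 2400 (allFrom_append (n := 600) 1800 (allFrom_append (n := 600) 1200 (allFrom_append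 (n := 600) 600 point_1_0 point_1_1) point_1_2) point_1_3) point_1_4) point_1_5) point_1_6) point_1_7) point_1_8) point_1_9) point_1_10) point_1_11) point_1_12) point_1_13) point_1_14) point_1_15) point_1_16) point_1_17) point_1_18) point_1_19) point_1_20) point_1_21) point_1_22) point_1_23) point_1_24) point_1_25) : allFrom (WalkCover.checkPoint cover steps rules tab 1) 0 15180 = true) hc
    · exact allFrom_all ((allFrom_append (n := 180) 15000 (allFrom_append (n := 600) 14400 (allFrom_append (n := 600) 13800 (allFrom_append (n := 600) 13200 (allFrom_append (n := 600) 12600 (allFrom_append (n := 600) 12000 (allFrom_append (n := 600) 11400 (allFrom_append (n := 600) 10800 (allFrom_append (n := 600) 10200 (allFrom_append (n := 600) 9600 (allFrom_append (n := 600) 9000 (allFrom_append (n := 600) 8400 (allFrom_append (n := 600) 7800 (allFrom_append (n := 600) 7200 (allFrom_append (n := 600) 6600 (allFrom_append (n := 600) 6000 (allFrom_append (n := 600) 5400 (allFrom_append (n := 600) 4800 (allFrom_append (n := 600) 4200 (allFrom_append (n := 600) 3600 (allFrom_append (n := 600)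 3000 (allFrom_append (n := 600) 2400 (allFrom_append (n := 600) 1800 (allFrom_append (n := 600) 1200 (allFrom_append (n := 600) 600 point_2_0 point_2_1) point_2_2) point_2_3) point_2_4) point_2_5) point_2_6) point_2_7) point_2_8) point_2_9) point_2_10) point_2_11) point_2_12) point_2_13) point_2_14) point_2_15) point_2_16) point_2_17) point_2_18) point_2_19) point_2_20) point_2_21) point_2_22) point_2_23) point_2_24) point_2_25) : allFrom (WalkCover.checkPoint cover steps rules tab 2) 0 15180 = true) hc
    · exact allFrom_all ((allFrom_append (n := 180) 15000 (allFrom_append (n := 600) 14400 (allFrom_append (n := 600) 13800 (allFrom_append (n := 600) 13200 (allFrom_append (n := 600) 12600 (allFrom_append (n := 600) 12000 (allFrom_append (n := 600) 11400 (allFrom_append (n := 600) 10800 (allFrom_append (n := 600) 10200 (allFrom_append (n := 600) 9600 (allFrom_append (n := 600) 9000 (allFrom_append (n := 600) 8400 (allFrom_append (n := 600) 7800 (allFrom_append (n := 600) 7200 (allFrom_append (n := 600) 6600 (allFrom_append (n := 600) 6000 (allFrom_append (n := 600) 5400 (allFrom_append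 (n := 600) 4800 (allFrom_append (n := 600) 4200 (allFrom_append (n := 600) 3600 (allFrom_append (n := 600) 3000 (allFrom_append (n := 600) 2400 (allFrom_append (n := 600) 1800 (allFrom_append (n := 600) 1200 (allFrom_append (n := 600) 600 point_3_0 point_3_1) point_3_2) point_3_3) point_3_4) point_3_5) point_3_6) point_3_7) point_3_8) point_3_9) point_3_10) point_3_11) point_3_12) point_3_13) point_3_14) point_3_15) point_3_16) point_3_17) point_3_18) point_3_19) point_3_20) point_3_21) point_3_22) point_3_23) point_3_24) point_3_25) : allFrom (WalkCover.checkPoint cover steps rules tab 3) 0 15180 = true) hc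
    · exact allFrom_all ((allFrom_append (n := 180) 15000 (allFrom_append (n := 600) 14400 (allFrom_append (n := 600) 13800 (allFrom_append (n := 600) 13200 (allFrom_append (n := 600) 12600 (allFrom_append (n := 600) 12000 (allFrom_append (n := 600) 11400 (allFrom_append (n := 600) 10800 (allFrom_append (n := 600) 10200 (allFrom_append (n := 600) 9600 (allFrom_append (n := 600) 9000 (allFrom_append (n := 600) 8400 (allFrom_append (n := 600) 7800 (allFrom_append (n := 600) 7200 (allFrom_append (n := 600) 6600 (allFrom_append (n := 600) 6000 (allFrom_append (n := 600) 5400 (allFrom_append (n := 600) 4800 (allFrom_append (n := 600) 4200 (allFrom_append (n := 600) 3600 (allFrom_append (n := 600) 3000 (allFrom_append (n := 600) 2400 (allFrom_append (n := 600) 1800 (allFrom_append (n := 600) 1200 (allFrom_append (n := 600) 600 point_4_0 point_4_1) point_4_2) point_4_3) point_4_4) point_4_5) point_4_6) point_4_7) point_4_8) point_4_9) point_4_10) point_4_11) point_4_12) point_4_13) point_4_14) point_4_15) point_4_16) point_4_17) point_4_18) point_4_19) point_4_20) point_4_21) point_4_22)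 point_4_23) point_4_24) point_4_25) : allFrom (WalkCover.checkPoint cover steps rules tab 4) 0 15180 = true) hc
    · exact allFrom_all ((allFrom_append (n := 180) 15000 (allFrom_append (n := 600) 14400 (allFrom_append (n := 600) 13800 (allFrom_append (n := 600) 13200 (allFrom_append (n := 600) 12600 (allFrom_append (n := 600) 12000 (allFrom_append (n := 600) 11400 (allFrom_append (n := 600) 10800 (allFrom_append (n := 600) 10200 (allFrom_append (n := 600) 9600 (allFrom_append (n := 600) 9000 (allFrom_append (n := 600) 8400 (allFrom_append (n := 600) 7800 (allFrom_append (n := 600) 7200 (allFrom_append (n := 600) 6600 (allFrom_append (n := 600) 6000 (allFrom_append (n := 600) 5400 (allFrom_append (n := 600) 4800 (allFrom_append (n := 600) 4200 (allFrom_append (n := 600) 3600 (allFrom_append (n := 600) 3000 (allFrom_append (n := 600) 2400 (allFrom_append (n := 600) 1800 (allFrom_append (n := 600) 1200 (allFrom_append (n := 600) 600 point_5_0 point_5_1) point_5_2) point_5_3) point_5_4) point_5_5) point_5_6) point_5_7) point_5_8) point_5_9) point_5_10) point_5_11) point_5_12)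 point_5_13) point_5_14) point_5_15) point_5_16) point_5_17) point_5_18) point_5_19) point_5_20) point_5_21) point_5_22) point_5_23) point_5_24) point_5_25) : allFrom (WalkCover.checkPoint cover steps rules tab 5) 0 15180 = true) hc
    · exact allFrom_all ((allFrom_append (n := 180) 15000 (allFrom_append (n := 600) 14400 (allFrom_append (n := 600) 13800 (allFrom_append (n := 600) 13200 (allFrom_append (n := 600) 12600 (allFrom_append (n := 600) 12000 (allFrom_append (n := 600) 11400 (allFrom_append (n := 600) 10800 (allFrom_append (n := 600) 10200 (allFrom_append (n := 600) 9600 (allFrom_append (n := 600) 9000 (allFrom_append (n := 600) 8400 (allFrom_append (n := 600) 7800 (allFrom_append (n := 600) 7200 (allFrom_append (n := 600) 6600 (allFrom_append (n := 600) 6000 (allFrom_append (n := 600) 5400 (allFrom_append (n := 600) 4800 (allFrom_append (n := 600) 4200 (allFrom_append (n := 600) 3600 (allFrom_append (n := 600) 3000 (allFrom_append (n := 600) 2400 (allFrom_append (n := 600) 1800 (allFrom_append (n := 600) 1200 (allFrom_append (n := 600) 600 point_6_0 point_6_1) point_6_2)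 point_6_3) point_6_4) point_6_5) point_6_6) point_6_7) point_6_8) point_6_9) point_6_10) point_6_11) point_6_12) point_6_13) point_6_14) point_6_15) point_6_16) point_6_17) point_6_18) point_6_19) point_6_20) point_6_21) point_6_22) point_6_23) point_6_24) point_6_25) : allFrom (WalkCover.checkPoint cover steps rules tab 6) 0 15180 = true) hc
  chain_gen m l a hm hl ha := by
    change m < 7 at hm
    interval_cases m
    · exact allFrom_all (allFrom_all gen_0 hl : _) ha
    · exact allFrom_all (allFrom_all gen_1 hl : _) ha
    · exact allFrom_all (allFrom_all gen_2 hl : _) ha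
    · exact allFrom_all (allFrom_all gen_3 hl : _) ha
    · exact allFrom_all (allFrom_all gen_4 hl : _) ha
    · exact allFrom_all (allFrom_all gen_5 hl : _) ha
    · exact allFrom_all (allFrom_all gen_6 hl : _) ha
  chain_pt m l j hm hl hj := by
    change m < 7 at hm
    interval_cases m
    · exact allFrom_all (allFrom_all pt_0 hl : _) hj
    · exact allFrom_all (allFrom_all pt_1 hl : _) hj
    · exact allFrom_all (allFrom_all pt_2 hl : _) hj
    · exact allFrom_all (allFrom_all pt_3 hl : _) hj
    · exact allFrom_all (allFrom_all pt_4 hl : _) hj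
    · exact allFrom_all (allFrom_all pt_5 hl : _) hj
    · exact allFrom_all (allFrom_all pt_6 hl : _) hj
  chain_mem m l a hm hl ha := by
    refine ⟨chOff (m * 4 + l) + a, ?_, rfl⟩
    have h := Nat.ble_eq.mp (allFrom_all (allFrom_all bounds_all hm : allFrom _ 0 4 = true) hl)
    change a < chCnt (m * 4 + l) at ha
    change chOff (m * 4 + l) + chCnt (m * 4 + l) ≤ nStab m at h
    change chOff (m * 4 + l) + a < nStab m
    omega
  idx_eq := by
    intro m hm
    change m < 7 at hm
    interval_cases m
    · decide +kernel
    · decide +kernel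
    · decide +kernel
    · decide +kernel
    · decide +kernel
    · decide +kernel
    · decide +kernel

end Cfsg.Agent.DCoset.J4W
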